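import Mathlib

/-!
The limit of a well-ordered system of acyclic complexes with surjective transition to the partial
limits is acyclic.
-/

set_option autoImplicit false
set_option linter.style.haveILetI false
set_option linter.unusedSectionVars false
set_option backward.isDefEq.respectTransparency false
set_option backward.isDefEq.respectTransparency.types false

universe w

open CategoryTheory Limits Opposite

namespace Groth.Agent.WellOrderLim

variable {I : Type w} [LinearOrder I] [WellFoundedLT I] (K : Iᵒᵖ ⥤ CochainComplex AddCommGrpCat.{w} ℤ)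

/-- The groups of the system. -/
abbrev X (n : ℤ) (β : I) : Type w := (K.obj (op β)).X n

/-- The transition maps. -/
noncomputable abbrev r (n : ℤ) {γ β : I} (h : γ ≤ β) : X K n β →+ X K n γ :=
  ((K.map (homOfLE h).op).f n).hom

/-- The differentials. -/
noncomputable abbrev D (i j : ℤ) (β : I) : X K i β →+ X K j β := ((K.obj (op β)).d i j).hom

theorem r_r (n : ℤ) {γ β α : I} (h : γ ≤ β) (h' : β ≤ α) (x : X K n α) :
    r K n h (r K n h' x) = r K n (h.trans h') x := by
  have := ConcreteCategory.congr_hom (congrArg (fun f => f.f n) (K.map_comp (homOfLE h').op (homOfLE h).op)) x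
  exact this.symm

theorem r_D (i j : ℤ) {γ β : I} (h : γ ≤ β) (x : X K i β) : r K j h (D K i j β x) = D K i j γ (r K i h x) :=
  (ConcreteCategory.congr_hom ((K.map (homOfLE h).op).comm i j) x).symm

theorem D_D (i j k : ℤ) (β : I) (x : X K i β) : D K j k β (D K i j β x) = 0 := by
  have := ConcreteCategory.congr_hom ((K.obj (op β)).d_comp_d i j k) x
  exact this

variable (hac : ∀ (β : I) (n : ℤ), (K.obj (op β)).ExactAt n)
  (hsurj : ∀ (β : I) (n : ℤ) (x : ∀ γ : {γ : I // γ < β}, (K.obj (op γ.1)).X n),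
    (∀ (γ γ' : {γ : I // γ < β}) (h : γ.1 ≤ γ'.1), ((K.map (homOfLE h).op).f n).hom (x γ') = x γ) →
    ∃ y : (K.obj (op β)).X n, ∀ γ : {γ : I // γ < β}, ((K.map (homOfLE γ.2.le).op).f n).hom y = x γ)

include hac in
theorem exists_preimage {i j k : ℤ} (hij : i + 1 = j) (hjk : j + 1 = k) (β : I) (x : X K j β)
    (hx : D K j k β x = 0) : ∃ y, D K i j β y = x := by
  have h := hac β j
  rw [HomologicalComplex.exactAt_iff' _ i j k (by simp; omega) (by simp; omega),
    ShortComplex.ab_exact_iff] at h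
  exact h x hx

/-- Extension of a family of primitives to `β`. -/
def Ext (β : I) : Prop :=
  ∀ (i j k : ℤ), i + 1 = j → j + 1 = k → ∀ (x : ∀ γ, X K j γ) (y : ∀ γ, X K i γ),
    (∀ γ (h : γ ≤ β), r K j h (x β) = x γ) → D K j k β (x β) = 0 →
    (∀ a b (h : a ≤ b), b < β → r K i h (y b) = y a) → (∀ γ, γ < β → D K i j γ (y γ) = x γ) →
    ∃ z, D K i j β z = x β ∧ ∀ γ (h : γ < β), r K i h.le z = y γ

open Classical in
/-- Primitives by recursion. -/
noncomputable def prim (i j : ℤ) (x : ∀ γ, X K j γ) : ∀ γ, X K i γ :=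
  wellFounded_lt.fix fun γ prev =>
    if h : ∃ z, D K i j γ z = x γ ∧ ∀ a (ha : a < γ), r K i ha.le z = prev a ha then h.choose else 0

theorem prim_spec (i j : ℤ) (x : ∀ γ, X K j γ) (γ : I)
    (h : ∃ z, D K i j γ z = x γ ∧ ∀ a (ha : a < γ), r K i ha.le z = prim K i j x a) :
    D K i j γ (prim K i j x γ) = x γ ∧ ∀ a (ha : a < γ), r K i ha.le (prim K i j x γ) = prim K i j x a := by
  classical
  have e : prim K i j x γ = h.choose := by
    conv_lhs => rw [prim, WellFounded.fix_eq]
    exact dif_pos h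
  rw [e]
  exact h.choose_spec

theorem exists_family {i j k : ℤ} (hij : i + 1 = j) (hjk : j + 1 = k) (P : I → Prop)
    (hP : ∀ a b, a ≤ b → P b → P a) (he : ∀ γ, P γ → Ext K γ) (x : ∀ γ, X K j γ)
    (hx : ∀ a b (h : a ≤ b), P b → r K j h (x b) = x a) (hxc : ∀ γ, P γ → D K j k γ (x γ) = 0) :
    ∃ y : ∀ γ, X K i γ, (∀ a b (h : a ≤ b), P b → r K i h (y b) = y a) ∧ ∀ γ, P γ → D K i j γ (y γ) = x γ := by
  let y := prim K i j x
  have key : ∀ γ, P γ → D K i j γ (y γ) = x γ ∧ ∀ a (ha : a < γ), r K i ha.le (y γ) = y a := by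
    intro γ
    induction γ using WellFoundedLT.induction with
    | ind γ IH =>
      intro hγ
      refine prim_spec K i j x γ (he γ hγ i j k hij hjk x y (fun a h => hx a γ h hγ) (hxc γ hγ) ?_
        fun a ha => (IH a ha (hP a γ ha.le hγ)).1)
      intro a b h hb
      rcases h.lt_or_eq with h' | rfl
      · exact (IH b hb (hP b γ hb.le hγ)).2 a h'
      · exact ConcreteCategory.congr_hom (congrArg (fun f => f.f i) (K.map_id (op a))) _
  refine ⟨y, fun a b h hb => ?_, fun γ hγ => (key γ hγ).1⟩
  rcases h.lt_or_eq with h' | rfl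
  · exact (key b hb).2 a h'
  · exact ConcreteCategory.congr_hom (congrArg (fun f => f.f i) (K.map_id (op a))) _

include hac hsurj in
theorem ext_all : ∀ β, Ext K β := by
  intro β
  induction β using WellFoundedLT.induction with
  | ind β IH =>
    intro i j k hij hjk x y hx hxc hy hyx
    obtain ⟨z, hz⟩ := hsurj β i (fun γ => y γ.1) fun γ γ' h => hy γ.1 γ'.1 h γ'.2
    have he : D K j k β (x β - D K i j β z) = 0 := by rw [map_sub, hxc, D_D, sub_zero]
    obtain ⟨w, hw⟩ := exists_preimage K hac hij hjk β _ he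
    let u : ∀ γ, X K i γ := fun γ => if h : γ ≤ β then r K i h w else 0
    have hu : ∀ γ (h : γ ≤ β), u γ = r K i h w := fun γ h => dif_pos h
    obtain ⟨v, hv, hvu⟩ := exists_family K (i := i - 1) (j := i) (k := j) (by omega) hij (fun γ => γ < β)
      (fun a b h hb => h.trans_lt hb) IH u
      (fun a b h hb => by rw [hu b hb.le, hu a (h.trans hb.le), r_r])
      (fun γ hγ => by
        have h' := hz ⟨γ, hγ⟩
        rw [hu γ hγ.le, ← r_D, hw, map_sub, r_D, hx γ hγ.le,
          show r K i hγ.le z = y γ from h', hyx γ hγ, sub_self])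
    obtain ⟨v', hv'⟩ := hsurj β (i - 1) (fun γ => v γ.1) fun γ γ' h => hv γ.1 γ'.1 h γ'.2
    refine ⟨z + (w - D K (i - 1) i β v'), ?_, fun γ h => ?_⟩
    · rw [map_add, map_sub, D_D, sub_zero, hw]; abel
    · rw [map_add, map_sub, r_D, show r K (i - 1) h.le v' = v γ from hv' ⟨γ, h⟩,
        show r K i h.le z = y γ from hz ⟨γ, h⟩, hvu γ h, hu γ h.le, sub_self, add_zero]

include hac hsurj in
theorem limit_exactAt (n : ℤ) : (limit K).ExactAt n := by
  rw [HomologicalComplex.exactAt_iff' _ (n - 1) n (n + 1) (by simp) (by simp), ShortComplex.ab_exact_iff]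
  intro x hx
  let π : ∀ (m : ℤ) (β : I), (limit K).X m →+ X K m β := fun m β => ((limit.π K (op β)).f m).hom
  have hπr : ∀ (m : ℤ) {a b : I} (h : a ≤ b) (t : (limit K).X m), r K m h (π m b t) = π m a t := fun m a b h t =>
    ConcreteCategory.congr_hom (congrArg (fun f => f.f m) (limit.w K (homOfLE h).op)) t
  have hπd : ∀ (i j : ℤ) (β : I) (t : (limit K).X i), π j β ((limit K).d i j t) = D K i j β (π i β t) :=
    fun i j β t => (ConcreteCategory.congr_hom ((limit.π K (op β)).comm i j) t).symm
  obtain ⟨y, hy, hyx⟩ := exists_family K (i := n - 1) (j := n) (k := n + 1) (by omega) rfl (fun _ => True)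
    (fun _ _ _ _ => trivial) (fun γ _ => ext_all K hac hsurj γ) (fun γ => π n γ x)
    (fun a b h _ => hπr n h x) (fun γ _ => by
      rw [← hπd]
      exact (congrArg (π (n + 1) γ) hx).trans (map_zero _))
  let E := fun m : ℤ => (HomologicalComplex.eval AddCommGrpCat.{w} (ComplexShape.up ℤ) m) ⋙ forget AddCommGrpCat.{w}
  have hlim : ∀ m, IsLimit ((E m).mapCone (limit.cone K)) := fun m =>
    isLimitOfPreserves (E m) (limit.isLimit K)
  let t := (Types.isLimitEquivSections (hlim (n - 1))).symm
    ⟨fun β => y β.unop, fun {a b} f => hy b.unop a.unop (leOfHom f.unop) trivial⟩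
  refine ⟨t, (Types.isLimitEquivSections (hlim n)).injective (Subtype.ext (funext fun β => ?_))⟩
  have ht : π (n - 1) β.unop t = y β.unop :=
    Types.isLimitEquivSections_symm_apply (hlim (n - 1)) _ β
  change π n β.unop ((limit K).d (n - 1) n t) = π n β.unop x
  rw [hπd, ht, hyx _ trivial]

end Groth.Agent.WellOrderLim
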